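import Groth.Agent.HensGm.Kernel
import Groth.Agent.EtPBC.HensDvrStalk
import Mathlib

/-!
# Units lift along closed immersions near their points
-/

set_option autoImplicit false
set_option backward.isDefEq.respectTransparency false
set_option backward.isDefEq.respectTransparency.types false
set_option linter.style.haveILetI false

universe u

open CategoryTheory CategoryTheory.Limits AlgebraicGeometry Opposite TopologicalSpace
open Groth.Agent.EtFLC (res res_res res_id)
open Groth.Agent.EtPBC (gmVal gmVal_res gmVal_injective exists_gmVal isUnit_gmVal)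

noncomputable section

namespace Groth.Agent.HensGm

variable {X Z : Scheme.{u}}

/-- a unit on a closed subscheme lifts near each of its points -/
theorem exists_lift_unit {V : Scheme.{u}} (j : Z ⟶ V) [IsClosedImmersion j] (z : Z) {t : Γ(Z, ⊤)} (ht : IsUnit t) :
    ∃ (D : V.Opens) (a : Γ(V, D)), j z ∈ D ∧ IsUnit a ∧
      Z.presheaf.map (homOfLE (le_top : j ⁻¹ᵁ D ≤ ⊤)).op t = j.app D a := by
  obtain ⟨U, hU, hzU, -⟩ := exists_isAffineOpen_mem_and_subset (U := ⊤) (x := j z) trivial
  obtain ⟨b, hb⟩ := j.app_surjective U hU (Z.presheaf.map (homOfLE (le_top : j ⁻¹ᵁ U ≤ ⊤)).op t)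
  refine ⟨V.basicOpen b, V.presheaf.map (homOfLE (V.basicOpen_le b)).op b, ?_,
    V.toLocallyRingedSpace.toRingedSpace.isUnit_res_basicOpen b, ?_⟩
  · show z ∈ j ⁻¹ᵁ V.basicOpen b
    rw [Scheme.preimage_basicOpen, hb, Scheme.mem_basicOpen _ _ _ (show z ∈ j ⁻¹ᵁ U from hzU)]
    exact (ht.map _).map _
  · have h := ConcreteCategory.congr_hom (Scheme.Hom.naturality j (homOfLE (V.basicOpen_le b)).op) b
    rw [ConcreteCategory.comp_apply, ConcreteCategory.comp_apply, hb] at h
    refine Eq.trans ?_ h.symm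
    refine Eq.trans ?_ (ConcreteCategory.comp_apply _ _ _)
    rw [← Functor.map_comp]
    rfl

variable (f : Z ⟶ X) [IsClosedImmersion f]

/-- the restriction of units is surjective near the points of a closed subscheme -/
theorem zeroAt_cokernel_gmPush {x : X} (hx : x ∈ Set.range f) :
    EtPBC.ZeroAt (cokernel (EtLim.GmPush f)) x := by
  refine EtPBC.zeroAt_cokernel_of_local _ fun V t v hv => ?_
  obtain ⟨y, hy⟩ := hx
  obtain ⟨z, hz, -⟩ := Scheme.Pullback.exists_preimage_pullback (f := V.hom) (g := f) v y (hv.trans hy.symm)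
  let j : pullback V.hom f ⟶ V.left := pullback.fst V.hom f
  haveI : IsClosedImmersion j := MorphismProperty.pullback_fst _ _ inferInstance
  obtain ⟨D, a, hzD, ha, heq⟩ := exists_lift_unit j z (isUnit_gmVal (W := (EtCoh.bc f).obj V) t)
  haveI := V.prop
  let W : X.Etale := Scheme.Etale.mk (D.ι ≫ V.hom)
  let g : W ⟶ V := MorphismProperty.Over.homMk D.ι rfl
  obtain ⟨s, hs⟩ := exists_gmVal (W := W) (ha.map D.topIso.inv.hom)
  refine ⟨W, g, ⟨v, hz ▸ hzD⟩, rfl, s, gmVal_injective (W := (EtCoh.bc f).obj W) ?_⟩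
  show (pullback.fst W.hom f).appTop (gmVal s) = ((EtCoh.bc f).map g).left.appTop (gmVal (W := (EtCoh.bc f).obj V) t)
  rw [hs]
  exact (EtPBC.appTop_eq_of_restrict j D ((EtCoh.bc f).map g).left (pullback.fst W.hom f)
    (EtCoh.isPullback_bc_map f g).w _ a heq).symm

/-- the restriction of units to a nonempty closed subscheme of a local scheme is onto at the closed point -/
theorem isZero_pull_cokernel_gmPush (R : Type u) [CommRing R] [IsLocalRing R] (I : Ideal R) (hI : I ≠ ⊤) :
    IsZero ((EtCoh.pull (EtMV.clPt R)).obj (cokernel (EtLim.GmPush (iQ R I)))) := by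
  haveI : IsClosedImmersion (iQ R I) := IsClosedImmersion.spec_of_surjective _ Ideal.Quotient.mk_surjective
  refine EtPBC.isZero_pull_clPt R _ (zeroAt_cokernel_gmPush _ ?_)
  show IsLocalRing.closedPoint R ∈ Set.range (PrimeSpectrum.comap (Ideal.Quotient.mk I))
  rw [range_comap_of_surjective _ _ Ideal.Quotient.mk_surjective, Ideal.mk_ker]
  exact IsLocalRing.le_maximalIdeal hI

end Groth.Agent.HensGm
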