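import Groth.Agent.EtPBC.GalPts
import Groth.Agent.EtPBC.CdDev
import Groth.Agent.GalCohLib.RelTransfer
import Groth.Agent.Misc3.EtFieldTorsion
import Groth.Agent.EtPushStalk.Unit
import Mathlib

/-!
# Cohomologically trivial sheaves on a field
-/

set_option autoImplicit false
set_option backward.isDefEq.respectTransparency false
set_option backward.isDefEq.respectTransparency.types false
set_option linter.auxLemma false
set_option linter.style.haveILetI false
set_option linter.unusedSectionVars false

universe u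

open CategoryTheory CategoryTheory.Limits CategoryTheory.Abelian AlgebraicGeometry Opposite
open Groth.Agent.EtFLC (res res_res res_id)
open Groth.Agent.EtPBC
open Groth.Agent.GalCohLib (pt ptMap)

noncomputable section

namespace Groth.Agent.HensGm

attribute [local instance 100000] EtCoh.H._proof_1 EtMV.hext
attribute [local instance 200000] EtMV.hextAb

/-- surjective norms and Hilbert 90 for all finite cyclic extensions -/
def CT (k : Type u) [Field k] (G : EtCoh.Ab (Spec (CommRingCat.of k))) : Prop :=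
  ∀ (L M : Type u) [Field L] [Field M] [Algebra k L] [Algebra k M] [Algebra L M] [IsScalarTower k L M]
    [FiniteDimensional k L] [Algebra.IsSeparable k L] [FiniteDimensional k M] [Algebra.IsSeparable k M]
    [FiniteDimensional L M] [IsGalois L M] (g : M ≃ₐ[L] M) (hg : ∀ x : M ≃ₐ[L] M, x ∈ Subgroup.zpowers g),
    (∀ s : EtCoh.sect G (pt k L), ∃ t : EtCoh.sect G (pt k M),
      (cycCover k L M g hg).nsum G t = res G (cycCover k L M g hg).π s) ∧
    (∀ t : EtCoh.sect G (pt k M), (cycCover k L M g hg).nsum G t = 0 →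
      ∃ w : EtCoh.sect G (pt k M), w - res G (cycCover k L M g hg).σ w = t)

section Step

variable {X : Scheme.{u}} {Z Y : X.Etale} (C : CycCover Z Y)

/-- the step in degree one -/
theorem eq_zero_of_restrict_one (F : EtCoh.Ab X)
    (h90 : ∀ t : EtCoh.sect F Z, C.nsum F t = 0 → ∃ w : EtCoh.sect F Z, w - res F C.σ w = t)
    (c : Ext ((EtMV.P X).obj Y) F 1)
    (hc : (Ext.mk₀ ((EtMV.P X).map C.π)).comp c (zero_add _) = 0) : c = 0 := by
  let π' := (EtMV.P X).map C.π
  let g : (EtMV.P X).obj Z ⟶ kernel π' := kernel.lift π' C.dif C.dif_π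
  haveI : Epi g := C.exact_middle.epi_kernelLift
  haveI := C.epi_π
  have wg : C.tr ≫ g = 0 := by
    rw [← cancel_mono (kernel.ι π'), Category.assoc, kernel.lift_ι, zero_comp, C.tr_dif]
  have hS1 : (ShortComplex.mk (kernel.ι π') π' (kernel.condition π')).ShortExact :=
    { exact := ShortComplex.exact_of_f_is_kernel _ (kernelIsKernel π') }
  obtain ⟨b, hb⟩ := Ext.contravariant_sequence_exact₃ hS1 F c hc (n₀ := 0) (by omega)
  obtain ⟨φ, rfl⟩ := (Ext.mk₀_bijective _ _).2 b
  have h0 : C.tr ≫ g ≫ φ = 0 := by rw [← Category.assoc, wg, zero_comp]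
  obtain ⟨w, hw⟩ := h90 (EtMV.σ (g ≫ φ)) (by
    rw [← C.res_π_σ_tr, (CycCover.eq_zero_iff _).1 h0, map_zero])
  have h1 : C.dif ≫ EtMV.σ.symm w = g ≫ φ := EtMV.σ.injective (by
    rw [C.σ_dif, Equiv.apply_symm_apply, hw])
  have h2 : kernel.ι π' ≫ EtMV.σ.symm w = φ := by
    rw [← cancel_epi g, ← h1, ← Category.assoc, kernel.lift_ι]
  rw [← hb, ← h2, ← Ext.mk₀_comp_mk₀, hS1.extClass_comp_assoc]

end Step

variable {k : Type u} [Field k] {G : EtCoh.Ab (Spec (CommRingCat.of k))}

/-- the vanishing in lower degrees -/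
def LowVan (k : Type u) [Field k] (G : EtCoh.Ab (Spec (CommRingCat.of k))) (n : ℕ) : Prop :=
  ∀ (M : Type u) [Field M] [Algebra k M] [FiniteDimensional k M] [Algebra.IsSeparable k M] (m : ℕ),
    m < n → ∀ c : Ext ((EtMV.P _).obj (pt k M)) G (m + 1), c = 0

section Steps

variable (hG : CT k G) {n : ℕ} (hlow : LowVan k G n)
include hG hlow

/-- restriction along a cyclic extension is injective -/
theorem eq_zero_of_cyclic (L M : Type u) [Field L] [Field M] [Algebra k L] [Algebra k M] [Algebra L M]
    [IsScalarTower k L M] [FiniteDimensional k L] [Algebra.IsSeparable k L] [FiniteDimensional k M]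
    [Algebra.IsSeparable k M] [FiniteDimensional L M] [IsGalois L M] (g : M ≃ₐ[L] M)
    (hg : ∀ x : M ≃ₐ[L] M, x ∈ Subgroup.zpowers g) (c : Ext ((EtMV.P _).obj (pt k L)) G (n + 1))
    (hc : (Ext.mk₀ ((EtMV.P _).map (ptMap k L M))).comp c (zero_add (n + 1)) = 0) : c = 0 := by
  obtain ⟨hN, h90⟩ := hG L M g hg
  let C := cycCover k L M g hg
  cases n with
  | zero => exact eq_zero_of_restrict_one C G h90 c hc
  | succ m =>
    refine C.eq_zero_of_restrict G (m := m) (fun b => hlow M m (by omega) b) (fun a => ?_) c hc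
    cases m with
    | zero =>
      obtain ⟨φ, rfl⟩ := (Ext.mk₀_bijective _ _).2 a
      obtain ⟨t, ht⟩ := hN (EtMV.σ φ)
      refine ⟨Ext.mk₀ (EtMV.σ.symm t), ?_⟩
      rw [Ext.mk₀_comp_mk₀]
      refine congrArg _ (EtMV.σ.injective (C.res_π_injective G ?_))
      rw [C.res_π_σ_tr, Equiv.apply_symm_apply]
      exact ht
    | succ r => exact ⟨0, (Ext.comp_zero _ _ _ _ _).trans (hlow L r (by omega) a).symm⟩

/-- restriction along an extension with a `p`-group is injective -/
theorem eq_zero_of_pGroup (p : ℕ) [hp : Fact p.Prime] : ∀ (N : ℕ) (L M : Type u) [Field L] [Field M] [Algebra k L]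
    [Algebra k M] [Algebra L M] [IsScalarTower k L M] [FiniteDimensional k L] [Algebra.IsSeparable k L]
    [FiniteDimensional k M] [Algebra.IsSeparable k M] [FiniteDimensional L M] [IsGalois L M],
    IsPGroup p (M ≃ₐ[L] M) → Module.finrank L M ≤ N → ∀ c : Ext ((EtMV.P _).obj (pt k L)) G (n + 1),
      (Ext.mk₀ ((EtMV.P _).map (ptMap k L M))).comp c (zero_add (n + 1)) = 0 → c = 0 := by
  intro N
  induction N with
  | zero =>
    intro L M _ _ _ _ _ _ _ _ _ _ _ _ _ hN
    have : 0 < Module.finrank L M := Module.finrank_pos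
    omega
  | succ N ih =>
    intro L M _ _ _ _ _ _ _ _ _ _ _ _ hP hN c hc
    by_cases htriv : Subsingleton (M ≃ₐ[L] M)
    · exact eq_zero_of_cyclic hG hlow L M 1 (fun x => by rw [Subsingleton.elim x 1]; exact one_mem _) c hc
    haveI : Nontrivial (M ≃ₐ[L] M) := not_subsingleton_iff_nontrivial.1 htriv
    haveI := hP.center_nontrivial
    obtain ⟨z, hz⟩ : ∃ z : Subgroup.center (M ≃ₐ[L] M), orderOf z = p := by
      obtain ⟨r, hr⟩ := IsPGroup.iff_card.1 (hP.to_subgroup (Subgroup.center (M ≃ₐ[L] M)))
      refine exists_prime_orderOf_dvd_card' p ?_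
      rcases Nat.eq_zero_or_pos r with h | h
      · have : 1 < Nat.card (Subgroup.center (M ≃ₐ[L] M)) := Finite.one_lt_card
        rw [hr, h, pow_zero] at this
        omega
      · rw [hr]; exact dvd_pow_self p h.ne'
    let H : Subgroup (M ≃ₐ[L] M) := Subgroup.zpowers (z : M ≃ₐ[L] M)
    haveI hHn : H.Normal := ⟨fun a ha b => by
      have hac : a ∈ Subgroup.center (M ≃ₐ[L] M) := Subgroup.zpowers_le.2 z.2 ha
      rw [Subgroup.mem_center_iff.1 hac b, mul_assoc, mul_inv_cancel, mul_one]
      exact ha⟩
    let L' := IntermediateField.fixedField H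
    haveI : IsGalois L L' := IsGalois.of_fixedField_normal_subgroup H
    haveI : IsGalois L' M := IsGalois.tower_top_of_isGalois L L' M
    haveI : FiniteDimensional k L' := FiniteDimensional.trans k L L'
    haveI : Algebra.IsSeparable k L' := Algebra.IsSeparable.trans k L L'
    haveI : IsScalarTower k L' M :=
      IsScalarTower.of_algebraMap_eq fun x => by
        rw [IsScalarTower.algebraMap_apply k L M x, IsScalarTower.algebraMap_apply k L L' x,
          ← IsScalarTower.algebraMap_apply L L' M]
    have hfin : Module.finrank L' M = p := by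
      rw [IntermediateField.finrank_fixedField_eq_card, Nat.card_zpowers, Subgroup.orderOf_coe, hz]
    have hlt : Module.finrank L L' ≤ N := by
      have h := Module.finrank_mul_finrank L L' M
      rw [hfin] at h
      have h2 := hp.out.two_le
      have h3 : 0 < Module.finrank L L' := Module.finrank_pos
      nlinarith
    have hP' : IsPGroup p (L' ≃ₐ[L] L') :=
      hP.of_surjective _ (AlgEquiv.restrictNormalHom_surjective (F := L) (K₁ := L') M)
    refine ih L L' hP' hlt c ?_
    haveI : IsCyclic (M ≃ₐ[L'] M) := isCyclic_of_prime_card (p := p) (by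
      rw [IsGalois.card_aut_eq_finrank, hfin])
    obtain ⟨g, hg⟩ := IsCyclic.exists_generator (α := M ≃ₐ[L'] M)
    refine eq_zero_of_cyclic hG hlow L' M g hg _ ?_
    rw [Ext.mk₀_comp_mk₀_assoc, ← Functor.map_comp]
    have e : ptMap k L' M ≫ ptMap k L L' = ptMap k L M := by
      apply MorphismProperty.Over.Hom.ext
      rw [MorphismProperty.Comma.comp_left]
      show Spec.map _ ≫ Spec.map _ = Spec.map _
      rw [← Spec.map_comp]
      rfl
    rw [e]
    exact hc

/-- **classes on the field vanish** -/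
theorem eq_zero_top (c : Ext ((EtMV.P _).obj (EtCoh.top (Spec (CommRingCat.of k)))) G (n + 1)) : c = 0 := by
  classical
  let X := Spec (CommRingCat.of k)
  obtain ⟨o, h, w, -, hkill⟩ := EtMV.exists_kill n (EtCoh.top X) G c (default : ↥X)
  obtain ⟨M, _, _, _, _, a, ha⟩ := Misc3.EtFieldTorsion.exists_galois_nhd o w
  let j : pt k M ⟶ o := MorphismProperty.Over.homMk a ha
  have hM : (Ext.mk₀ ((EtMV.P X).map (EtMV.toTop (pt k M)))).comp c (zero_add (n + 1)) = 0 := by
    rw [EtMV.hom_top_ext (EtMV.toTop (pt k M)) (j ≫ h), Functor.map_comp, ← Ext.mk₀_comp_mk₀_assoc, hkill,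
      Ext.comp_zero]
  rw [← AddMonoid.addOrderOf_eq_one_iff, Nat.eq_one_iff_not_exists_prime_dvd]
  intro p hp hdvd
  haveI := Fact.mk hp
  obtain ⟨S⟩ : Nonempty (Sylow p (M ≃ₐ[k] M)) := inferInstance
  let L := IntermediateField.fixedField (S : Subgroup (M ≃ₐ[k] M))
  haveI : Algebra.IsSeparable k L := Algebra.isSeparable_tower_bot_of_isSeparable k L M
  haveI : IsGalois L M := IsGalois.tower_top_of_isGalois k L M
  have hP : IsPGroup p (M ≃ₐ[L] M) := by
    refine IsPGroup.of_equiv ?_ (IntermediateField.fixingSubgroupEquiv L)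
    rw [IntermediateField.fixingSubgroup_fixedField]
    exact S.isPGroup'
  have hdeg : ¬ p ∣ Module.finrank k L := by
    have h := IntermediateField.finrank_eq_fixingSubgroup_index (F := k) (E' := M) L
    rw [IntermediateField.fixingSubgroup_fixedField] at h
    intro hd
    exact S.not_dvd_index (h ▸ hd)
  have hL : (Ext.mk₀ ((EtMV.P X).map (EtMV.toTop (pt k L)))).comp c (zero_add (n + 1)) = 0 := by
    refine eq_zero_of_pGroup hG hlow p _ L M hP le_rfl _ ?_
    rw [Ext.mk₀_comp_mk₀_assoc, ← Functor.map_comp,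
      EtMV.hom_top_ext (ptMap k L M ≫ EtMV.toTop (pt k L)) (EtMV.toTop (pt k M))]
    exact hM
  exact hdeg (hdvd.trans (addOrderOf_dvd_of_nsmul_eq_zero (GalCohLib.finrank_nsmul_eq_zero k L G (n + 1) c hL)))

end Steps

section Points

variable (K L : Type u) [Field K] [Field L] [Algebra k K] [Algebra k L] [Algebra K L] [IsScalarTower k K L]
  [FiniteDimensional k K] [Algebra.IsSeparable k K] [FiniteDimensional k L] [Algebra.IsSeparable k L]
  [FiniteDimensional K L] [Algebra.IsSeparable K L] [Etale (Spec.map (CommRingCat.ofHom (algebraMap k K)))]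

theorem spec_tower : Spec.map (CommRingCat.ofHom (algebraMap K L)) ≫ Spec.map (CommRingCat.ofHom (algebraMap k K)) =
    Spec.map (CommRingCat.ofHom (algebraMap k L)) := by
  rw [← Spec.map_comp, ← CommRingCat.ofHom_comp, ← IsScalarTower.algebraMap_eq]

/-- points of a tower -/
def ptComp : (EtShriek.compEtale (Spec.map (CommRingCat.ofHom (algebraMap k K)))).obj (pt K L) ≅ pt k L :=
  MorphismProperty.Over.isoMk (Iso.refl _) ((Category.id_comp _).trans (spec_tower K L).symm)

theorem ptComp_square (M : Type u) [Field M] [Algebra k M] [Algebra K M] [IsScalarTower k K M]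
    [FiniteDimensional k M] [Algebra.IsSeparable k M] [FiniteDimensional K M] [Algebra.IsSeparable K M]
    (f : pt K M ⟶ pt K L) (f' : pt k M ⟶ pt k L) (hf : f.left = f'.left) :
    (EtShriek.compEtale (Spec.map (CommRingCat.ofHom (algebraMap k K)))).map f ≫ (ptComp (k := k) K L).hom =
      (ptComp (k := k) K M).hom ≫ f' := by
  apply MorphismProperty.Over.Hom.ext
  rw [MorphismProperty.Comma.comp_left, MorphismProperty.Comma.comp_left]
  exact ((Category.comp_id _).trans hf).trans (Category.id_comp _).symm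

end Points

/-- the same conditions on finite extensions -/
theorem CT.restrict (hG : CT k G) (K : Type u) [Field K] [Algebra k K] [FiniteDimensional k K]
    [Algebra.IsSeparable k K] [Etale (Spec.map (CommRingCat.ofHom (algebraMap k K)))]
    [EtShriek.JCont (Spec.map (CommRingCat.ofHom (algebraMap k K)))] :
    CT K ((EtShriek.restrAlong (Spec.map (CommRingCat.ofHom (algebraMap k K)))).obj G) := by
  intro L M _ _ _ _ _ _ _ _ _ _ _ _ g hg
  letI : Algebra k L := ((algebraMap K L).comp (algebraMap k K)).toAlgebra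
  letI : Algebra k M := ((algebraMap K M).comp (algebraMap k K)).toAlgebra
  haveI : IsScalarTower k K L := IsScalarTower.of_algebraMap_eq fun _ => rfl
  haveI : IsScalarTower k K M := IsScalarTower.of_algebraMap_eq fun _ => rfl
  haveI : IsScalarTower k L M := IsScalarTower.of_algebraMap_eq fun x =>
    IsScalarTower.algebraMap_apply K L M (algebraMap k K x)
  haveI : FiniteDimensional k L := FiniteDimensional.trans k K L
  haveI : FiniteDimensional k M := FiniteDimensional.trans k K M
  haveI : Algebra.IsSeparable k L := Algebra.IsSeparable.trans k K L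
  haveI : Algebra.IsSeparable k M := Algebra.IsSeparable.trans k K M
  obtain ⟨hN, h90⟩ := hG L M g hg
  let h := Spec.map (CommRingCat.ofHom (algebraMap k K))
  let C := cycCover k L M g hg
  let C' := cycCover K L M g hg
  let eL := ptComp (k := k) K L
  let eM := ptComp (k := k) K M
  have hπ : (EtShriek.compEtale h).map C'.π ≫ eL.hom = eM.hom ≫ C.π :=
    ptComp_square K L M (ptMap K L M) (ptMap k L M) rfl
  have hσ1 : ∀ x : M ≃ₐ[L] M, (EtShriek.compEtale h).map (galMap K L M x) ≫ eM.hom = eM.hom ≫ galMap k L M x :=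
    fun x => ptComp_square K M M (galMap K L M x) (galMap k L M x) rfl
  have hσ : ∀ i, (EtShriek.compEtale h).map (spow C'.σ i) ≫ eM.hom = eM.hom ≫ spow C.σ i := fun i => by
    show (EtShriek.compEtale h).map (spow (galMap K L M g) i) ≫ _ = _ ≫ spow (galMap k L M g) i
    rw [spow_galMap, spow_galMap]
    exact hσ1 _
  have hnsum : ∀ u : EtCoh.sect G (pt k M),
      C'.nsum ((EtShriek.restrAlong h).obj G) (res G eM.hom u) = res G eM.hom (C.nsum G u) := fun u => by
    unfold CycCover.nsum
    rw [map_sum]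
    refine Finset.sum_congr rfl fun i _ => ?_
    show res G ((EtShriek.compEtale h).map (spow C'.σ i)) (res G eM.hom u) = _
    rw [res_res, res_res, hσ]
  have hinv : ∀ t : EtCoh.sect G ((EtShriek.compEtale h).obj (pt K M)), res G eM.hom (res G eM.inv t) = t := fun t => by
    rw [res_res, Iso.hom_inv_id, res_id]
  refine ⟨fun s => ?_, fun t ht => ?_⟩
  · obtain ⟨t, ht⟩ := hN (res G eL.inv s)
    refine ⟨res G eM.hom t, ?_⟩
    rw [hnsum, ht]
    show _ = res G ((EtShriek.compEtale h).map C'.π) s
    rw [res_res, ← hπ, res_res, Category.assoc, eL.hom_inv_id, Category.comp_id]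
  · obtain ⟨w, hw⟩ := h90 (res G eM.inv t) (by
      have h1 := hnsum (res G eM.inv t)
      rw [hinv, ht] at h1
      have h2 := congrArg (res G eM.inv) h1.symm
      rw [res_res, Iso.inv_hom_id, res_id] at h2
      exact h2.trans (map_zero _))
    have hσ' : (EtShriek.compEtale h).map C'.σ ≫ eM.hom = eM.hom ≫ C.σ := hσ1 g
    refine ⟨res G eM.hom w, ?_⟩
    show _ - res G ((EtShriek.compEtale h).map C'.σ) (res G eM.hom w) = t
    rw [← hinv t, ← hw, map_sub, res_res, res_res, hσ']

/-- the conditions only depend on the sheaf up to isomorphism -/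
theorem CT.of_iso {G' : EtCoh.Ab (Spec (CommRingCat.of k))} (e : G ≅ G') (hG : CT k G) : CT k G' := by
  intro L M _ _ _ _ _ _ _ _ _ _ _ _ g hg
  obtain ⟨hN, h90⟩ := hG L M g hg
  let a := fun (o : (Spec (CommRingCat.of k)).Etale) => (e.hom.hom.app (op o)).hom
  let b := fun (o : (Spec (CommRingCat.of k)).Etale) => (e.inv.hom.app (op o)).hom
  have hab : ∀ o x, a o (b o x) = x := fun o x => congrArg (fun z => (z.hom.app (op o)).hom x) e.inv_hom_id
  have hn : ∀ u, (cycCover k L M g hg).nsum G' (a _ u) = a _ ((cycCover k L M g hg).nsum G u) := fun u => by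
    unfold CycCover.nsum
    rw [map_sum]
    exact Finset.sum_congr rfl fun i _ => (EtFLC.app_res e.hom _ _).symm
  refine ⟨fun s => ?_, fun t ht => ?_⟩
  · obtain ⟨t, ht⟩ := hN (b _ s)
    exact ⟨a _ t, by rw [hn, ht]; exact (EtFLC.app_res e.hom _ _).trans (congrArg _ (hab _ s))⟩
  · have hba : ∀ o x, b o (a o x) = x := fun o x => congrArg (fun z => (z.hom.app (op o)).hom x) e.hom_inv_id
    obtain ⟨w, hw⟩ := h90 (b _ t) (by
      have h1 := hn (b _ t)
      rw [hab, ht] at h1
      have h2 := congrArg (b _) h1.symm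
      rwa [hba, map_zero] at h2)
    refine ⟨a _ w, ?_⟩
    rw [show res G' _ (a _ w) = a _ (res G _ w) from (EtFLC.app_res e.hom _ _).symm, ← map_sub, hw, hab]

/-- **positive degree cohomology vanishes** -/
theorem CT.eq_zero : ∀ (n : ℕ) (k : Type u) [Field k] (G : EtCoh.Ab (Spec (CommRingCat.of k))), CT k G →
    ∀ c : EtCoh.H (Spec (CommRingCat.of k)) G (n + 1), c = 0 := by
  intro n
  induction n using Nat.strong_induction_on with
  | _ n ih =>
    intro k _ G hG c
    have hlow : LowVan k G n := by
      intro M _ _ _ _ m hm b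
      haveI := GalCohLib.etale_spec k M
      let h := Spec.map (CommRingCat.ofHom (algebraMap k M))
      haveI := EtMV.jcont_etale h
      haveI := Groth.Agent.EtPullExact.pull_preservesFiniteLimits h
      refine (EtMV.Φe h G (m + 1)).injective ?_
      rw [map_zero]
      exact ih m hm M _ ((hG.restrict M).of_iso ((EtPushStalk.restrPullIso h).app G)) _
    exact (EtMV.eX _ G (n + 1)).symm.injective ((eq_zero_top hG hlow _).trans (map_zero _).symm)

end Groth.Agent.HensGm
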