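import Groth.Agent.HensGm.UnitSec
import Groth.Agent.EtPBC.GmLoc
import Groth.Prelude.Def_EtLim
import Mathlib

/-!
# The kernel of the restriction of units to a closed subscheme
-/

set_option autoImplicit false
set_option backward.isDefEq.respectTransparency false
set_option backward.isDefEq.respectTransparency.types false
set_option linter.style.haveILetI false

universe u

open CategoryTheory CategoryTheory.Limits AlgebraicGeometry Opposite
open Groth.Agent.EtFLC (res res_res res_id)
open Groth.Agent.EtPBC (gmVal gmVal_res gmVal_zero gmVal_injective exists_gmVal isUnit_gmVal)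

noncomputable section

namespace Groth.Agent.HensGm

variable (R : Type u) [CommRing R] (I : Ideal R)

/-- the closed immersion -/
abbrev iQ : Spec (CommRingCat.of (R ⧸ I)) ⟶ Spec (CommRingCat.of R) :=
  Spec.map (CommRingCat.ofHom (Ideal.Quotient.mk I))

/-- units congruent to one -/
def KI : EtCoh.Ab (Spec (CommRingCat.of R)) := kernel (EtLim.GmPush (iQ R I))

/-- functions trivial on the closed fibre -/
theorem fst_appTop_eq_one_iff (T : Type u) [CommRing T] [Algebra R T] (a : T) :
    (pullback.fst (Spec.map (CommRingCat.ofHom (algebraMap R T))) (iQ R I)).appTop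
        ((Scheme.ΓSpecIso (CommRingCat.of T)).inv a) = 1 ↔ a - 1 ∈ I.map (algebraMap R T) := by
  let e := pullbackSpecIso R T (R ⧸ I)
  let inc := CommRingCat.ofHom (Algebra.TensorProduct.includeLeftRingHom : T →+* TensorProduct R T (R ⧸ I))
  haveI : IsIso e.hom.appTop := inferInstance
  have hinj := ((ConcreteCategory.isIso_iff_bijective e.hom.appTop).1 inferInstance).1
  have h1 : (pullback.fst (Spec.map (CommRingCat.ofHom (algebraMap R T))) (iQ R I)).appTop
      ((Scheme.ΓSpecIso (CommRingCat.of T)).inv a) = e.hom.appTop ((Scheme.ΓSpecIso _).inv (inc a)) := by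
    refine (congrArg (fun m => (Scheme.Hom.appTop m) _) (pullbackSpecIso_hom_fst R T (R ⧸ I)).symm).trans ?_
    rw [Scheme.Hom.comp_appTop]
    exact congrArg e.hom.appTop (ConcreteCategory.congr_hom (Scheme.ΓSpecIso_inv_naturality inc) a).symm
  rw [h1, ← map_one e.hom.appTop.hom]
  refine (hinj.eq_iff).trans ?_
  have h2 : Function.Injective (Scheme.ΓSpecIso (CommRingCat.of (TensorProduct R T (R ⧸ I)))).inv :=
    ((ConcreteCategory.isIso_iff_bijective _).1 inferInstance).1
  rw [← map_one (Scheme.ΓSpecIso (CommRingCat.of (TensorProduct R T (R ⧸ I)))).inv.hom, h2.eq_iff,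
    ← Ideal.Quotient.eq, map_one, ← (Algebra.TensorProduct.quotIdealMapEquivTensorQuot T I).injective.eq_iff,
    map_one]
  rfl

variable {R I}

/-- the inclusion on sections -/
abbrev ιK (V : (Spec (CommRingCat.of R)).Etale) : EtCoh.sect (KI R I) V →+ EtCoh.sect (EtCoh.Gm _) V :=
  ((kernel.ι (EtLim.GmPush (iQ R I))).hom.app (op V)).hom

theorem ιK_injective (V : (Spec (CommRingCat.of R)).Etale) : Function.Injective (ιK (I := I) V) := by
  haveI : Mono (kernel.ι (EtLim.GmPush (iQ R I))).hom := (sheafToPresheaf _ _).map_mono _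
  exact (AddCommGrpCat.mono_iff_injective _).1 (inferInstanceAs (Mono ((kernel.ι (EtLim.GmPush (iQ R I))).hom.app (op V))))

theorem ιK_res {V W : (Spec (CommRingCat.of R)).Etale} (g : W ⟶ V) (s : EtCoh.sect (KI R I) V) :
    ιK W (res (KI R I) g s) = res (EtCoh.Gm _) g (ιK V s) :=
  EtFLC.app_res _ g s

theorem fst_ιK (V : (Spec (CommRingCat.of R)).Etale) (s : EtCoh.sect (KI R I) V) :
    (pullback.fst V.hom (iQ R I)).appTop (gmVal (ιK V s)) = 1 := by
  have h : ((EtLim.GmPush (iQ R I)).hom.app (op V)).hom (ιK V s) = 0 :=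
    congrArg (fun m : KI R I ⟶ _ => (m.hom.app (op V)).hom s) (kernel.condition (EtLim.GmPush (iQ R I)))
  exact congrArg (gmVal (W := (EtCoh.bc (iQ R I)).obj V)) h

theorem exists_ιK (V : (Spec (CommRingCat.of R)).Etale) (t : EtCoh.sect (EtCoh.Gm _) V)
    (ht : (pullback.fst V.hom (iQ R I)).appTop (gmVal t) = 1) : ∃ s : EtCoh.sect (KI R I) V, ιK V s = t := by
  let S : ShortComplex (EtCoh.Ab (Spec (CommRingCat.of R))) :=
    ShortComplex.mk (kernel.ι (EtLim.GmPush (iQ R I))) (EtLim.GmPush (iQ R I)) (kernel.condition _)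
  haveI : Mono S.f := inferInstanceAs (Mono (kernel.ι _))
  have hex : S.Exact := S.exact_of_f_is_kernel (kernelIsKernel _)
  have hk := hex.map_of_mono_of_preservesKernel
    (sheafToPresheaf (Spec (CommRingCat.of R)).smallEtaleTopology AddCommGrpCat.{u + 1} ⋙
      (evaluation _ AddCommGrpCat.{u + 1}).obj (op V)) inferInstance inferInstance
  exact (ShortComplex.ab_exact_iff _).1 hk t (gmVal_injective (W := (EtCoh.bc (iQ R I)).obj V) ht)

variable {T : Type u} [CommRing T] [Algebra R T] [Algebra.Etale R T]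

/-- the element of the algebra -/
def val (s : EtCoh.sect (KI R I) (spT R T)) : T :=
  (Scheme.ΓSpecIso (CommRingCat.of T)).hom (gmVal (ιK (spT R T) s))

theorem inv_val (s : EtCoh.sect (KI R I) (spT R T)) :
    (Scheme.ΓSpecIso (CommRingCat.of T)).inv (val s) = gmVal (ιK (spT R T) s) :=
  ConcreteCategory.congr_hom (Scheme.ΓSpecIso (CommRingCat.of T)).hom_inv_id _

theorem val_injective : Function.Injective (val (R := R) (I := I) (T := T)) := fun s t h => by
  refine ιK_injective _ (gmVal_injective ?_)
  rw [← inv_val, ← inv_val, h]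

theorem val_sub_one_mem (s : EtCoh.sect (KI R I) (spT R T)) : val s - 1 ∈ I.map (algebraMap R T) := by
  rw [← fst_appTop_eq_one_iff R I T, inv_val]
  exact fst_ιK _ s

theorem exists_val {a : T} (hu : IsUnit a) (ha : a - 1 ∈ I.map (algebraMap R T)) :
    ∃ s : EtCoh.sect (KI R I) (spT R T), val s = a := by
  obtain ⟨t, ht⟩ := exists_gmVal (W := spT R T) (hu.map (Scheme.ΓSpecIso (CommRingCat.of T)).inv.hom)
  obtain ⟨s, hs⟩ := exists_ιK (I := I) (spT R T) t (by rw [ht]; exact (fst_appTop_eq_one_iff R I T a).2 ha)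
  refine ⟨s, ?_⟩
  show (Scheme.ΓSpecIso (CommRingCat.of T)).hom (gmVal (ιK (spT R T) s)) = a
  rw [hs, ht]
  exact ConcreteCategory.congr_hom (Scheme.ΓSpecIso (CommRingCat.of T)).inv_hom_id a

theorem val_zero : val (0 : EtCoh.sect (KI R I) (spT R T)) = 1 := by
  rw [val, map_zero, gmVal_zero, map_one]

theorem val_add (s t : EtCoh.sect (KI R I) (spT R T)) : val (s + t) = val s * val t := by
  rw [val, val, val, map_add, ← map_mul]
  rfl

theorem val_sum {α : Type*} (S : Finset α) (f : α → EtCoh.sect (KI R I) (spT R T)) :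
    val (∑ i ∈ S, f i) = ∏ i ∈ S, val (f i) := by
  classical
  induction S using Finset.induction with
  | empty => simpa using val_zero
  | insert a S ha ih => rw [Finset.sum_insert ha, Finset.prod_insert ha, val_add, ih]

/-- a map of algebras on étale schemes -/
def spMap {T' : Type u} [CommRing T'] [Algebra R T'] [Algebra.Etale R T'] (f : T →ₐ[R] T') :
    spT R T' ⟶ spT R T :=
  MorphismProperty.Over.homMk (Spec.map (CommRingCat.ofHom f.toRingHom)) (by
    show Spec.map _ ≫ Spec.map _ = Spec.map _
    rw [← Spec.map_comp, ← CommRingCat.ofHom_comp]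
    exact congrArg _ (congrArg _ (RingHom.ext f.commutes)))

theorem val_res {T' : Type u} [CommRing T'] [Algebra R T'] [Algebra.Etale R T'] (f : T →ₐ[R] T')
    (s : EtCoh.sect (KI R I) (spT R T)) : val (res (KI R I) (spMap f) s) = f (val s) := by
  rw [val, val, ιK_res, gmVal_res]
  exact ConcreteCategory.congr_hom (Scheme.ΓSpecIso_naturality (CommRingCat.ofHom f.toRingHom)) (gmVal (ιK (spT R T) s))

end Groth.Agent.HensGm
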