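import Mathlib

/-!
# Norms and Hilbert 90 for units congruent to one in a henselian local ring
-/

set_option autoImplicit false

universe u

open Finset Polynomial

namespace Groth.Agent.HensGm

variable {T : Type u} [CommRing T]

/-- an automorphism of finite order preserves the maximal ideal -/
theorem mem_maximalIdeal_of_iterate [IsLocalRing T] (σ : T →+* T) {n : ℕ} (hn : 0 < n)
    (hper : ∀ x, σ^[n] x = x) {x : T} (hx : x ∈ IsLocalRing.maximalIdeal T) :
    σ x ∈ IsLocalRing.maximalIdeal T := by
  intro h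
  apply hx
  have h2 : ∀ i, IsUnit (σ^[i] (σ x)) := fun i => by
    induction i with
    | zero => exact h
    | succ i ih => rw [Function.iterate_succ_apply']; exact ih.map σ
  have h3 := h2 (n - 1)
  rwa [← Function.iterate_succ_apply, Nat.succ_eq_add_one, Nat.sub_add_cancel hn, hper] at h3

variable (σ : T →+* T) (n : ℕ)

/-- shifting a periodic product -/
theorem prod_shift {M : Type*} [CommMonoid M] (f : ℕ → M) (hn : 0 < n) (hf : f n = f 0) :
    ∏ i ∈ range n, f (i + 1) = ∏ i ∈ range n, f i := by
  obtain ⟨m, rfl⟩ : ∃ m, n = m + 1 := ⟨n - 1, by omega⟩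
  rw [prod_range_succ, prod_range_succ' f, hf]

variable [HenselianLocalRing T] (J : Ideal T)

/-- **norms are surjective on units congruent to one** -/
theorem exists_norm_eq (hJ : J ≤ IsLocalRing.maximalIdeal T) (hn : 0 < n) (hper : ∀ x, σ^[n] x = x)
    (e : T) (he : IsUnit (∑ i ∈ range n, σ^[i] e)) (a : T) (ha : σ a = a) (ha1 : a - 1 ∈ J) :
    ∃ x ∈ J, ∏ i ∈ range n, σ^[i] (1 + x * e) = a := by
  classical
  let m := IsLocalRing.maximalIdeal T
  have hσm : ∀ x ∈ m, σ x ∈ m := fun x hx => mem_maximalIdeal_of_iterate σ hn hper hx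
  have hue : IsUnit e := by
    by_contra h
    refine (IsLocalRing.mem_maximalIdeal _).1 (m.sum_mem (fun i _ => ?_)) he
    clear * - h hσm
    induction i with
    | zero => exact h
    | succ i ih => rw [Function.iterate_succ_apply']; exact hσm _ ih
  obtain ⟨u, rfl⟩ := hue
  let d : ℕ → T := fun i => σ^[i] (↑u⁻¹ : T)
  let c : T := ∏ i ∈ range n, σ^[i] (u : T)
  have hdc : ∀ i, d i * σ^[i] (u : T) = 1 := fun i => by
    show σ^[i] _ * _ = 1
    rw [← iterate_map_mul, Units.inv_mul, iterate_map_one]
  have hc1 : (∏ i ∈ range n, d i) * c = 1 := by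
    rw [← prod_mul_distrib, prod_eq_one fun i _ => hdc i]
  let P : T[X] := ∏ i ∈ range n, (X + C (d i))
  let g : T[X] := P - C (a * ∏ i ∈ range n, d i)
  have hPm : P.Monic := monic_prod_of_monic _ _ fun i _ => monic_X_add_C _
  have hgm : g.Monic := by
    by_cases hd : (C (a * ∏ i ∈ range n, d i)).degree < P.degree
    · exact hPm.sub_of_left hd
    · exfalso
      apply hd
      refine lt_of_le_of_lt degree_C_le ?_
      haveI : Nontrivial T := inferInstance
      rw [degree_eq_natDegree hPm.ne_zero]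
      have : P.natDegree = n := by
        rw [natDegree_prod_of_monic _ _ fun i _ => monic_X_add_C _]
        simp
      rw [this]
      exact_mod_cast hn
  have hev : ∀ x : T, g.eval x * c = ∏ i ∈ range n, (1 + x * σ^[i] (u : T)) - a := fun x => by
    simp only [g, P, eval_sub, eval_prod, eval_add, eval_X, eval_C, sub_mul]
    rw [mul_assoc, hc1, mul_one, ← prod_mul_distrib]
    congr 1
    refine prod_congr rfl fun i _ => ?_
    rw [add_mul, hdc, add_comm]
  have hg0 : g.eval 0 ∈ J := by
    have h := hev 0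
    simp only [zero_mul, add_zero, prod_const_one] at h
    have h' : g.eval 0 = (1 - a) * ∏ i ∈ range n, d i := by
      rw [← h, mul_assoc, mul_comm c, hc1, mul_one]
    rw [h', ← neg_sub]
    exact J.mul_mem_right _ (J.neg_mem ha1)
  have hg' : (derivative g).eval 0 = (∏ i ∈ range n, d i) * ∑ i ∈ range n, σ^[i] (u : T) := by
    simp only [g, P, derivative_sub, derivative_C, sub_zero, derivative_prod_finset, derivative_add,
      derivative_X, add_zero, mul_one, eval_finsetSum, eval_prod, eval_add, eval_X, eval_C, zero_add]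
    rw [mul_sum]
    refine sum_congr rfl fun i hi => ?_
    rw [← mul_prod_erase _ _ hi, mul_right_comm, hdc, one_mul]
  have hu' : IsUnit ((derivative g).eval 0) := by
    rw [hg']
    exact (IsUnit.of_mul_eq_one _ hc1).mul he
  obtain ⟨x, hx0, hxm⟩ := HenselianLocalRing.is_henselian g hgm 0 (hJ hg0) hu'
  rw [sub_zero] at hxm
  have hroot : ∀ y ∈ m, IsUnit ((derivative g).eval y) := fun y hy => by
    by_contra h
    obtain ⟨k, hk⟩ := sub_dvd_eval_sub y 0 (derivative g)
    refine (IsLocalRing.mem_maximalIdeal _).1 ?_ hu'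
    rw [show (derivative g).eval 0 = (derivative g).eval y - (y - 0) * k by rw [← hk]; ring]
    exact m.sub_mem h (m.mul_mem_right _ (by rwa [sub_zero]))
  have hfac : ∀ y h : T, y ∈ m → h ∈ m → ∃ q : T, IsUnit q ∧ g.eval (y + h) = g.eval y + h * q := fun y h hy hh => by
    obtain ⟨k, hk⟩ := binomExpansion g y h
    refine ⟨(derivative g).eval y + k * h, ?_, by rw [hk]; ring⟩
    by_contra hq
    refine (IsLocalRing.mem_maximalIdeal _).1 ?_ (hroot y hy)
    rw [show (derivative g).eval y = ((derivative g).eval y + k * h) - k * h by ring]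
    exact m.sub_mem hq (m.mul_mem_left _ hh)
  have hxJ : x ∈ J := by
    obtain ⟨q, hq, he'⟩ := hfac 0 x m.zero_mem hxm
    rw [zero_add, hx0.eq_zero] at he'
    have h1 : x * q ∈ J := by
      rw [show x * q = -g.eval 0 by linear_combination he'.symm]
      exact J.neg_mem hg0
    exact (J.mul_unit_mem_iff_mem hq).1 h1
  have hdper : σ (d n) = d 1 := by
    show σ (σ^[n] _) = σ^[1] _
    rw [hper]
    rfl
  have hgσ : g.map σ = g := by
    have hP : P.map σ = P := by
      simp only [P, Polynomial.map_prod, Polynomial.map_add, map_X, map_C]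
      refine Eq.trans (prod_congr rfl fun i _ => ?_) (prod_shift n (fun i => X + C (d i)) hn ?_)
      · rw [show σ (d i) = d (i + 1) from (Function.iterate_succ_apply' _ _ _).symm]
      · show X + C (σ^[n] _) = _
        rw [hper]
        rfl
    have hd' : σ (∏ i ∈ range n, d i) = ∏ i ∈ range n, d i := by
      rw [map_prod]
      refine Eq.trans (prod_congr rfl fun i _ => (Function.iterate_succ_apply' _ _ _).symm) (prod_shift n d hn (hper _))
    simp only [g, Polynomial.map_sub, map_C, hP, map_mul σ, ha, hd']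
  have hσx : σ x = x := by
    have h1 : g.eval (σ x) = 0 := by
      rw [← hgσ, eval_map, eval₂_hom, hx0.eq_zero, map_zero]
    obtain ⟨q, hq, he'⟩ := hfac x (σ x - x) hxm (m.sub_mem (hσm x hxm) hxm)
    rw [add_sub_cancel, h1, hx0.eq_zero, zero_add] at he'
    exact sub_eq_zero.1 (hq.mul_left_eq_zero.1 he'.symm)
  have hσix : ∀ i, σ^[i] x = x := fun i => Function.iterate_fixed hσx i
  refine ⟨x, hxJ, ?_⟩
  have h := hev x
  rw [hx0.eq_zero, zero_mul] at h
  rw [← sub_eq_zero, h]
  congr 1
  refine prod_congr rfl fun i _ => ?_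
  rw [iterate_map_add, iterate_map_one, iterate_map_mul, hσix]

omit [HenselianLocalRing T] in
/-- **Hilbert 90 on units congruent to one** -/
theorem exists_h90 [IsLocalRing T] (hJ : J ≤ IsLocalRing.maximalIdeal T) (hn : 0 < n) (hper : ∀ x, σ^[n] x = x)
    (hσJ : ∀ x ∈ J, σ x ∈ J) (e : T) (he : IsUnit (∑ i ∈ range n, σ^[i] e)) (b : T) (hb : b - 1 ∈ J)
    (hN : ∏ i ∈ range n, σ^[i] b = 1) : ∃ w : T, w - 1 ∈ J ∧ b * σ w = w := by
  have hσi : ∀ (i : ℕ) (x : T), x ∈ J → σ^[i] x ∈ J := fun i => by
    induction i with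
    | zero => exact fun _ h => h
    | succ i ih => exact fun x h => by rw [Function.iterate_succ_apply']; exact hσJ _ (ih x h)
  let c : ℕ → T := fun i => ∏ j ∈ range i, σ^[j] b
  have hc : ∀ i, c i - 1 ∈ J := fun i => by
    induction i with
    | zero => simp [c]
    | succ i ih =>
      rw [show c (i + 1) = c i * σ^[i] b from prod_range_succ _ _,
        show c i * σ^[i] b - 1 = c i * σ^[i] (b - 1) + (c i - 1) by rw [iterate_map_sub, iterate_map_one]; ring]
      exact J.add_mem (J.mul_mem_left _ (hσi i _ hb)) ih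
  have hcs : ∀ i, b * σ (c i) = c (i + 1) := fun i => by
    simp only [c, map_prod, prod_range_succ' _ i, Function.iterate_zero_apply]
    rw [mul_comm]
    congr 1
    exact prod_congr rfl fun j _ => (Function.iterate_succ_apply' _ _ _).symm
  let f : ℕ → T := fun i => c i * σ^[i] e
  let θ := ∑ i ∈ range n, f i
  let t := ∑ i ∈ range n, σ^[i] e
  have hθ : b * σ θ = θ := by
    simp only [θ, map_sum, mul_sum]
    obtain ⟨m, rfl⟩ : ∃ m, n = m + 1 := ⟨n - 1, by omega⟩
    have e1 : ∀ i, b * σ (f i) = f (i + 1) := fun i => by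
      simp only [f, map_mul, ← mul_assoc, hcs]
      rw [Function.iterate_succ_apply']
    rw [sum_congr rfl fun i _ => e1 i, sum_range_succ, sum_range_succ' f]
    congr 1
    simp only [f, c, hN, prod_range_zero, Function.iterate_zero_apply, hper]
  have ht : σ t = t := by
    simp only [t, map_sum]
    obtain ⟨m, rfl⟩ : ∃ m, n = m + 1 := ⟨n - 1, by omega⟩
    rw [sum_congr rfl fun i _ => (Function.iterate_succ_apply' _ _ _).symm, sum_range_succ,
      sum_range_succ' (fun i => σ^[i] e), hper]
    rfl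
  obtain ⟨v, hv⟩ := he
  have hvi : σ (↑v⁻¹ : T) = ↑v⁻¹ := by
    refine (Units.eq_inv_of_mul_eq_one_left ?_)
    have h := congrArg σ v.mul_inv
    rw [map_mul, map_one, show σ (v : T) = v by rw [hv]; exact ht] at h
    exact h
  refine ⟨θ * ↑v⁻¹, ?_, by rw [map_mul, hvi, ← mul_assoc, hθ]⟩
  have h1 : θ * ↑v⁻¹ - 1 = (∑ i ∈ range n, (c i - 1) * σ^[i] e) * ↑v⁻¹ := by
    simp only [sub_mul, one_mul, sum_sub_distrib]
    rw [← hv, Units.mul_inv]
  rw [h1]
  exact J.mul_mem_right _ (J.sum_mem fun i _ => J.mul_mem_right _ (hc i))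

end Groth.Agent.HensGm
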