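import Groth.Agent.HensGm.Trans
import Groth.Agent.HensGm.Coker
import Groth.Agent.EtAcycX.Edge
import Mathlib

/-!
# The units of a henselian local ring and of a quotient have the same cohomology
-/

set_option autoImplicit false
set_option backward.isDefEq.respectTransparency false
set_option backward.isDefEq.respectTransparency.types false
set_option linter.auxLemma false
set_option linter.style.haveILetI false

universe u

open CategoryTheory CategoryTheory.Limits CategoryTheory.Abelian AlgebraicGeometry Opposite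
open Groth.Agent.EtMV (clPt)

noncomputable section

namespace Groth.Agent.HensGm

attribute [local instance 100000] EtCoh.H._proof_1 EtMV.hext
attribute [local instance 200000] EtMV.hextAb

variable (R : Type u) [CommRing R] [HenselianLocalRing R] (I : Ideal R)

theorem ext_kernel_eq_zero (hI : I ≠ ⊤) (n : ℕ) (x : Ext (EtCoh.const (Spec (CommRingCat.of R)) ℤ) (KI R I) (n + 1)) :
    x = 0 := by
  haveI := EtPullExact.pull_preservesFiniteLimits (clPt R)
  refine (EtMV.toH _ _ _).injective ((EtMV.Hpull_bijective (KI R I) (n + 1)).1 ?_)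
  refine (CT.eq_zero n _ _ (ct_kernel hI) _).trans ?_
  exact ((congrArg _ (map_zero (EtMV.toH _ _ _))).trans (map_zero _)).symm

/-- the units map bijectively in positive degrees -/
theorem bijective_comp_gmPush (hI : I ≠ ⊤) (n : ℕ) :
    Function.Bijective (fun x : Ext (EtCoh.const (Spec (CommRingCat.of R)) ℤ) (EtCoh.Gm _) (n + 1) =>
      x.comp (Ext.mk₀ (EtLim.GmPush (iQ R I))) (add_zero (n + 1))) := by
  let φ := EtLim.GmPush (iQ R I)
  let S₁ : ShortComplex (EtCoh.Ab (Spec (CommRingCat.of R))) :=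
    ShortComplex.mk (kernel.ι φ) (Abelian.factorThruImage φ) (by
      rw [← cancel_mono (Abelian.image.ι φ), Category.assoc, Abelian.image.fac, kernel.condition, zero_comp])
  let S₂ : ShortComplex (EtCoh.Ab (Spec (CommRingCat.of R))) :=
    ShortComplex.mk (Abelian.image.ι φ) (cokernel.π φ) (kernel.condition _)
  have hS₁ : S₁.ShortExact :=
    { exact := ShortComplex.exact_of_f_is_kernel _ (KernelFork.IsLimit.ofι' _ _ fun g hg =>
        ⟨kernel.lift φ g (by rw [← Abelian.image.fac φ, ← Category.assoc, show g ≫ Abelian.factorThruImage φ = 0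
          from hg, zero_comp]), kernel.lift_ι _ _ _⟩) }
  have hS₂ : S₂.ShortExact :=
    { exact := ShortComplex.exact_of_f_is_kernel _ (kernelIsKernel _) }
  have e : (fun x : Ext (EtCoh.const (Spec (CommRingCat.of R)) ℤ) (EtCoh.Gm _) (n + 1) => x.comp (Ext.mk₀ φ) (add_zero _)) =
      (fun x => x.comp (Ext.mk₀ S₂.f) (add_zero (n + 1))) ∘ (fun x => x.comp (Ext.mk₀ S₁.g) (add_zero (n + 1))) :=
    funext fun x => by
      simp only [Function.comp_apply, Ext.comp_assoc_of_second_deg_zero, Ext.mk₀_comp_mk₀]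
      rw [show S₁.g ≫ S₂.f = φ from Abelian.image.fac φ]
  show Function.Bijective (fun x => Ext.comp x (Ext.mk₀ φ) (add_zero (n + 1)))
  rw [e]
  refine (EtMV.bijective_comp_f hS₂ (fun m => EtMV.ext_vanish m _ (isZero_pull_cokernel_gmPush R I hI)) _).comp
    ⟨fun a b hab => ?_, fun y => Ext.covariant_sequence_exact₃ _ hS₁ y rfl (ext_kernel_eq_zero R I hI (n + 1) _)⟩
  have h0 : (a - b).comp (Ext.mk₀ S₁.g) (add_zero (n + 1)) = 0 := by
    rw [sub_eq_add_neg, Ext.add_comp, Ext.neg_comp, ← sub_eq_add_neg]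
    exact sub_eq_zero.2 hab
  obtain ⟨d, hd⟩ := Ext.covariant_sequence_exact₂ _ hS₁ (a - b) h0
  have hd0 : d = 0 := ext_kernel_eq_zero R I hI n d
  rw [hd0, Ext.zero_comp] at hd
  exact sub_eq_zero.1 hd.symm

theorem bijective_HGmPull (hI : I ≠ ⊤) [PreservesFiniteLimits (EtCoh.pull (iQ R I))] (i : ℕ) (hi : 1 ≤ i) :
    Function.Bijective (EtLim.HGmPull (iQ R I) i) := by
  obtain ⟨n, rfl⟩ : ∃ n, i = n + 1 := ⟨i - 1, by omega⟩
  haveI : IsClosedImmersion (iQ R I) := IsClosedImmersion.spec_of_surjective _ Ideal.Quotient.mk_surjective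
  refine ((EtAcycX.HofPush_bounded (iQ R I) _ (n + 1) fun q _ => EtIntegral.Rpush_succ_isZero _ _ q).1 (n + 1) le_rfl).comp ?_
  exact bijective_comp_gmPush R I hI n

end Groth.Agent.HensGm
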