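import Groth.Agent.Hensel.FiniteEtale
import Groth.Agent.Hensel.Local
import Mathlib

/-!
# Finite étale local algebras over a henselian local ring, by their residue fields
-/

set_option autoImplicit false
set_option linter.style.haveILetI false

universe u

open IsLocalRing
open scoped TensorProduct

noncomputable section

namespace Groth.Agent.HensGm

variable (R : Type u) [CommRing R] [HenselianLocalRing R]

/-- a finite étale local algebra with given residue field -/
structure Model (M : Type u) [Field M] [Algebra R M] where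
  /-- the ring -/
  T : Type u
  [commRing : CommRing T]
  [algebra : Algebra R T]
  [finite : Module.Finite R T]
  [etale : Algebra.Etale R T]
  [isLocal : IsLocalRing T]
  /-- the reduction -/
  ρ : T →ₐ[R] M
  surj : Function.Surjective ρ
  ker_eq : RingHom.ker ρ = maximalIdeal T
  maxI : maximalIdeal T = (maximalIdeal R).map (algebraMap R T)

attribute [instance] Model.commRing Model.algebra Model.finite Model.etale Model.isLocal

variable {R}

instance Model.henselian {M : Type u} [Field M] [Algebra R M] (X : Model R M) : HenselianLocalRing X.T :=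
  Hensel.henselianLocalRing_finite R X.T

/-- models exist -/
theorem Model.nonempty (M : Type u) [Field M] [Algebra R M] [Algebra (ResidueField R) M]
    [IsScalarTower R (ResidueField R) M] [FiniteDimensional (ResidueField R) M]
    [Algebra.IsSeparable (ResidueField R) M] : Nonempty (Model R M) := by
  haveI : Algebra.FormallyEtale (ResidueField R) M := Algebra.FormallyEtale.of_isSeparable _ _
  haveI : Algebra.Etale (ResidueField R) M := ⟨inferInstance, Algebra.FinitePresentation.of_finiteType.1 inferInstance⟩
  obtain ⟨T, _, _, hf, he, ⟨e⟩⟩ := Hensel.exists_finite_etale_lift R M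
  haveI := hf
  haveI := he
  let ρ : T →ₐ[R] M := (e.toAlgHom.restrictScalars R).comp Algebra.TensorProduct.includeRight
  let J : Ideal T := (maximalIdeal R).map (algebraMap R T)
  have hsurj : Function.Surjective ρ :=
    e.surjective.comp (TensorProduct.mk_surjective R T (ResidueField R) residue_surjective)
  have hker : RingHom.ker ρ = J := by
    refine le_antisymm (fun z hz => ?_) (Ideal.map_le_iff_le_comap.2 fun r hr => ?_)
    · have h0 : (1 : ResidueField R) ⊗ₜ[R] z = 0 := e.injective (hz.trans (map_zero e).symm)
      let f : ResidueField R →ₐ[R] T ⧸ J := Ideal.Quotient.liftₐ (maximalIdeal R) (Algebra.ofId R (T ⧸ J))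
        fun a ha => by
          rw [Algebra.ofId_apply, IsScalarTower.algebraMap_apply R T (T ⧸ J), Ideal.Quotient.algebraMap_eq,
            Ideal.Quotient.eq_zero_iff_mem]
          exact Ideal.mem_map_of_mem _ ha
      have h1 := congrArg (Algebra.TensorProduct.lift f (Ideal.Quotient.mkₐ R J) fun _ _ => .all _ _) h0
      rw [Algebra.TensorProduct.lift_tmul, map_one, one_mul, map_zero, Ideal.Quotient.mkₐ_eq_mk,
        Ideal.Quotient.eq_zero_iff_mem] at h1
      exact h1
    · show ρ (algebraMap R T r) = 0
      rw [AlgHom.commutes, IsScalarTower.algebraMap_apply R (ResidueField R) M, ResidueField.algebraMap_eq,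
        (residue_eq_zero_iff r).2 hr, map_zero]
  have hmax : (RingHom.ker ρ).IsMaximal := RingHom.ker_isMaximal_of_surjective ρ hsurj
  have huniq : ∀ P : Ideal T, P.IsMaximal → P = RingHom.ker ρ := fun P hP => by
    refine (hmax.eq_of_le hP.ne_top (hker.le.trans (Ideal.map_le_iff_le_comap.2 ?_))).symm
    exact (eq_maximalIdeal (Ideal.isMaximal_comap_of_isIntegral_of_isMaximal (R := R) P)).ge
  haveI : IsLocalRing T := IsLocalRing.of_unique_max_ideal ⟨_, hmax, huniq⟩
  exact ⟨{ T := T, ρ := ρ, surj := hsurj, ker_eq := eq_maximalIdeal hmax,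
           maxI := (eq_maximalIdeal hmax).symm.trans hker }⟩

variable {M L : Type u} [Field M] [Algebra R M] [Field L] [Algebra R L]

theorem Model.existsUnique_lift (Y : Model R L) (X : Model R M) (f : Y.T →ₐ[R] M) :
    ∃! g : Y.T →ₐ[R] X.T, X.ρ.comp g = f := by
  refine Hensel.existsUnique_algHom_of_quotient X.ρ X.surj ?_ f
  rw [show RingHom.ker X.ρ.toRingHom = maximalIdeal X.T from X.ker_eq]
  exact (Hensel.henselianLocalRing_iff X.T).1 inferInstance

/-- the lift of a map of residue fields -/
def Model.lift (Y : Model R L) (X : Model R M) (f : L →ₐ[R] M) : Y.T →ₐ[R] X.T :=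
  (Y.existsUnique_lift X (f.comp Y.ρ)).choose

theorem Model.ρ_lift (Y : Model R L) (X : Model R M) (f : L →ₐ[R] M) (y : Y.T) :
    X.ρ (Y.lift X f y) = f (Y.ρ y) :=
  AlgHom.congr_fun (Y.existsUnique_lift X (f.comp Y.ρ)).choose_spec.1 y

theorem Model.hom_ext {Y : Model R L} {X : Model R M} {g g' : Y.T →ₐ[R] X.T} (h : ∀ y, X.ρ (g y) = X.ρ (g' y)) :
    g = g' :=
  (Y.existsUnique_lift X (X.ρ.comp g)).unique rfl (AlgHom.ext fun y => (h y).symm)

theorem Model.isUnit_iff (X : Model R M) (x : X.T) : IsUnit x ↔ X.ρ x ≠ 0 := by
  rw [← notMem_maximalIdeal, ← X.ker_eq]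
  rfl

end Groth.Agent.HensGm
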