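import Groth.Agent.HensGm.FieldCT
import Groth.Agent.HensGm.Lift
import Groth.Agent.HensGm.Model
import Groth.Agent.HensGm.Kernel
import Mathlib

/-!
# The units congruent to one, restricted to the closed point, are cohomologically trivial
-/

set_option autoImplicit false
set_option backward.isDefEq.respectTransparency false
set_option backward.isDefEq.respectTransparency.types false
set_option linter.auxLemma false
set_option linter.style.haveILetI false
set_option linter.unusedSectionVars false

universe u

open CategoryTheory CategoryTheory.Limits AlgebraicGeometry Opposite IsLocalRing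
open Groth.Agent.EtFLC (res res_res res_id)
open Groth.Agent.EtH0Pair (unitSec unitSec_map)
open Groth.Agent.EtMV (clPt)
open Groth.Agent.GalCohLib (pt ptMap)
open Groth.Agent.EtPBC (cycCover galMap spow spow_galMap)

noncomputable section

namespace Groth.Agent.HensGm

variable {R : Type u} [CommRing R] [HenselianLocalRing R] {I : Ideal R}

theorem Model.isLocalHom {M : Type u} [Field M] [Algebra R M] (X : Model R M) : IsLocalHom (algebraMap R X.T) :=
  ((local_hom_TFAE (algebraMap R X.T)).out 2 0).1 X.maxI.ge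

instance {M : Type u} [Field M] [Algebra R M] (X : Model R M) : IsLocalHom (algebraMap R X.T) := X.isLocalHom

section Point

variable {M : Type u} [Field M] [Algebra R M] [Algebra (ResidueField R) M] [IsScalarTower R (ResidueField R) M]
  [FiniteDimensional (ResidueField R) M] [Algebra.IsSeparable (ResidueField R) M] (X : Model R M)

theorem Model.spec_w :
    Spec.map (CommRingCat.ofHom X.ρ.toRingHom) ≫ Spec.map (CommRingCat.ofHom (algebraMap R X.T)) =
      Spec.map (CommRingCat.ofHom (algebraMap (ResidueField R) M)) ≫ clPt R := by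
  rw [← Spec.map_comp, ← Spec.map_comp, ← CommRingCat.ofHom_comp, ← CommRingCat.ofHom_comp]
  refine congrArg _ (congrArg _ (RingHom.ext fun r => ?_))
  show X.ρ (algebraMap R X.T r) = algebraMap (ResidueField R) M (residue R r)
  rw [AlgHom.commutes, IsScalarTower.algebraMap_apply R (ResidueField R) M]
  rfl

/-- the closed fibre of a model -/
def Model.φ : pt (ResidueField R) M ⟶ (EtCoh.bc (clPt R)).obj (spT R X.T) :=
  MorphismProperty.Over.homMk
    (pullback.lift (Spec.map (CommRingCat.ofHom X.ρ.toRingHom)) (Spec.map (CommRingCat.ofHom (algebraMap (ResidueField R) M))) X.spec_w)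
    (pullback.lift_snd _ _ _)

instance Model.isIso_φ : IsIso X.φ := by
  let e : TensorProduct R X.T (ResidueField R) →ₐ[R] M :=
    Algebra.TensorProduct.lift X.ρ (IsScalarTower.toAlgHom R (ResidueField R) M) fun _ _ => .all _ _
  have he : Function.Bijective e := by
    refine ⟨(injective_iff_map_eq_zero _).2 fun z hz => ?_, fun m => ?_⟩
    · obtain ⟨w, rfl⟩ := (Algebra.TensorProduct.quotIdealMapEquivTensorQuot X.T (maximalIdeal R)).surjective z
      obtain ⟨x, rfl⟩ := Ideal.Quotient.mk_surjective w
      rw [Algebra.TensorProduct.quotIdealMapEquivTensorQuot_mk] at hz ⊢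
      have hx : X.ρ x = 0 := by
        have h' := hz
        erw [Algebra.TensorProduct.lift_tmul, map_one, mul_one] at h'
        exact h'
      have hx' : x ∈ (maximalIdeal R).map (algebraMap R X.T) := by
        rw [← X.maxI, ← X.ker_eq]
        exact hx
      rw [← Algebra.TensorProduct.quotIdealMapEquivTensorQuot_mk, Ideal.Quotient.eq_zero_iff_mem.2 hx', map_zero]
    · obtain ⟨x, rfl⟩ := X.surj m
      exact ⟨x ⊗ₜ 1, by rw [Algebra.TensorProduct.lift_tmul, map_one, mul_one]⟩
  let eR : CommRingCat.of (TensorProduct R X.T (ResidueField R)) ≅ CommRingCat.of M :=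
    (RingEquiv.ofBijective e.toRingHom he).toCommRingCatIso
  haveI : IsIso (Spec.map eR.hom) := inferInstance
  have hl : X.φ.left = Spec.map eR.hom ≫ (pullbackSpecIso R X.T (ResidueField R)).inv := by
    show pullback.lift _ _ _ = Spec.map eR.hom ≫ (pullbackSpecIso R X.T (ResidueField R)).inv
    apply pullback.hom_ext
    · rw [pullback.lift_fst, Category.assoc]
      erw [pullbackSpecIso_inv_fst, ← Spec.map_comp]
      refine congrArg _ (CommRingCat.hom_ext (RingHom.ext fun x => ?_))
      show X.ρ x = e (x ⊗ₜ 1)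
      rw [Algebra.TensorProduct.lift_tmul, map_one, mul_one]
    · rw [pullback.lift_snd, Category.assoc]
      erw [pullbackSpecIso_inv_snd, ← Spec.map_comp]
      refine congrArg _ (CommRingCat.hom_ext (RingHom.ext fun x => ?_))
      show algebraMap (ResidueField R) M x = e (1 ⊗ₜ x)
      rw [Algebra.TensorProduct.lift_tmul, map_one, one_mul]
      rfl
  haveI : IsIso X.φ.left := by
    rw [hl]
    infer_instance
  have e2 : X.φ = (MorphismProperty.Over.isoMk (asIso X.φ.left) (MorphismProperty.Over.w X.φ)).hom :=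
    MorphismProperty.Over.Hom.ext rfl
  rw [e2]
  infer_instance

/-- sections on the point -/
def Model.θ : EtCoh.sect (KI R I) (spT R X.T) →+ EtCoh.sect ((EtCoh.pull (clPt R)).obj (KI R I)) (pt (ResidueField R) M) :=
  (res _ X.φ).comp (unitSec (clPt R) (KI R I) (spT R X.T))

theorem Model.θ_bijective : Function.Bijective (X.θ (I := I)) := by
  show Function.Bijective (res ((EtCoh.pull (clPt R)).obj (KI R I)) X.φ ∘ unitSec (clPt R) (KI R I) (spT R X.T))
  refine Function.Bijective.comp ?_ (unitSec_bijective R X.T (KI R I))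
  refine Function.bijective_iff_has_inverse.2 ⟨res _ (inv X.φ), fun s => ?_, fun s => ?_⟩
  · rw [res_res, IsIso.inv_hom_id, res_id]
  · rw [res_res, IsIso.hom_inv_id, res_id]

variable {L : Type u} [Field L] [Algebra R L] [Algebra (ResidueField R) L] [IsScalarTower R (ResidueField R) L]
  [FiniteDimensional (ResidueField R) L] [Algebra.IsSeparable (ResidueField R) L] (Y : Model R L)

theorem Model.θ_res (f : L →ₐ[R] M) (pf : pt (ResidueField R) M ⟶ pt (ResidueField R) L)
    (hpf : pf.left = Spec.map (CommRingCat.ofHom f.toRingHom)) (s : EtCoh.sect (KI R I) (spT R Y.T)) :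
    res _ pf (Y.θ s) = X.θ (res (KI R I) (spMap (Y.lift X f)) s) := by
  have e : pf ≫ Y.φ = X.φ ≫ (EtCoh.bc (clPt R)).map (spMap (Y.lift X f)) := by
    apply MorphismProperty.Over.Hom.ext
    rw [MorphismProperty.Comma.comp_left, MorphismProperty.Comma.comp_left]
    show pf.left ≫ pullback.lift _ _ _ = pullback.lift _ _ _ ≫ _
    apply pullback.hom_ext
    · rw [Category.assoc, pullback.lift_fst, Category.assoc]
      erw [(EtCoh.isPullback_bc_map (clPt R) (spMap (Y.lift X f))).w, pullback.lift_fst_assoc]
      rw [hpf]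
      show _ ≫ Spec.map _ = Spec.map _ ≫ Spec.map _
      rw [← Spec.map_comp, ← Spec.map_comp]
      exact congrArg _ (CommRingCat.hom_ext (RingHom.ext fun y => (Y.ρ_lift X f y).symm))
    · have e1 : ((EtCoh.bc (clPt R)).map (spMap (Y.lift X f))).left ≫ pullback.snd (spT R Y.T).hom (clPt R) =
          pullback.snd (spT R X.T).hom (clPt R) := by
        dsimp [EtCoh.bc]
        exact pullback.lift_snd _ _ _
      rw [Category.assoc, pullback.lift_snd, Category.assoc]
      erw [e1, pullback.lift_snd]
      exact MorphismProperty.Over.w pf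
  show res _ pf (res _ Y.φ _) = res _ X.φ _
  rw [res_res, e, ← res_res]
  exact congrArg (res _ X.φ) (unitSec_map (clPt R) (KI R I) _ s)

end Point

theorem Model.lift_iterate {M : Type u} [Field M] [Algebra R M] (X : Model R M) (f : M →ₐ[R] M) (i : ℕ) (x : X.T) :
    X.ρ ((X.lift X f)^[i] x) = f^[i] (X.ρ x) := by
  induction i with
  | zero => rfl
  | succ i ih => rw [Function.iterate_succ_apply', Function.iterate_succ_apply', X.ρ_lift, ih]

theorem Model.iterate_eq_lift {M : Type u} [Field M] [Algebra R M] (X : Model R M) (f g : M →ₐ[R] M) (i : ℕ)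
    (h : ∀ m, f^[i] m = g m) (x : X.T) : (X.lift X f)^[i] x = X.lift X g x := by
  have e : (X.lift X f) ^ i = X.lift X g := Model.hom_ext fun y => by
    rw [AlgHom.coe_pow, X.lift_iterate, X.ρ_lift, h]
  rw [← AlgHom.coe_pow, e]

/-- the sum over a cyclic Galois group does not vanish identically -/
theorem exists_sum_ne_zero {L M : Type u} [Field L] [Field M] [Algebra L M] [FiniteDimensional L M] [IsGalois L M]
    (g : M ≃ₐ[L] M) (hg : ∀ x : M ≃ₐ[L] M, x ∈ Subgroup.zpowers g) :
    ∃ m : M, ∑ i ∈ Finset.range (orderOf g), (g ^ i) m ≠ 0 := by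
  classical
  obtain ⟨m, hm⟩ := Algebra.trace_surjective L M 1
  refine ⟨m, fun h => ?_⟩
  have h2 := trace_eq_sum_automorphisms (K := L) m
  rw [hm, map_one] at h2
  rw [← Finset.sum_image (f := fun x : M ≃ₐ[L] M => x m)
    (fun i hi j hj e => pow_injOn_Iio_orderOf (by simpa using hi) (by simpa using hj) e),
    IsCyclic.image_range_orderOf hg, ← h2] at h
  exact one_ne_zero h

variable (hI : I ≠ ⊤)
include hI

/-- **the field criterion holds** -/
theorem ct_kernel : CT (ResidueField R) ((EtCoh.pull (clPt R)).obj (KI R I)) := by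
  intro L M _ _ _ _ _ _ _ _ _ _ _ _ g hg
  letI : Algebra R L := ((algebraMap (ResidueField R) L).comp (residue R)).toAlgebra
  letI : Algebra R M := ((algebraMap (ResidueField R) M).comp (residue R)).toAlgebra
  haveI : IsScalarTower R (ResidueField R) L := IsScalarTower.of_algebraMap_eq fun _ => rfl
  haveI : IsScalarTower R (ResidueField R) M := IsScalarTower.of_algebraMap_eq fun _ => rfl
  haveI : IsScalarTower R L M :=
    IsScalarTower.of_algebraMap_eq fun x => IsScalarTower.algebraMap_apply (ResidueField R) L M (residue R x)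
  obtain ⟨Y⟩ := Model.nonempty (R := R) L
  obtain ⟨X⟩ := Model.nonempty (R := R) M
  let n := orderOf g
  have hn : 0 < n := orderOf_pos g
  let ga : M →ₐ[R] M := g.toAlgHom.restrictScalars R
  let al : L →ₐ[R] M := IsScalarTower.toAlgHom R L M
  let σ := X.lift X ga
  let π := Y.lift X al
  let J : Ideal X.T := I.map (algebraMap R X.T)
  have hgi : ∀ (i : ℕ) (m : M), ga^[i] m = (g ^ i) m := fun i m => by
    induction i with
    | zero => rfl
    | succ i ih => rw [Function.iterate_succ_apply', ih, pow_succ']; rfl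
  have hper : ∀ x, σ^[n] x = x := fun x => by
    rw [X.iterate_eq_lift ga (AlgHom.id R M) n (fun m => by rw [hgi, pow_orderOf_eq_one]; rfl)]
    exact AlgHom.congr_fun (Model.hom_ext (g' := AlgHom.id R X.T) fun y => X.ρ_lift X _ y) x
  have hJ : J ≤ maximalIdeal X.T := by
    rw [X.maxI]
    exact Ideal.map_mono (le_maximalIdeal hI)
  have hσJ : ∀ x ∈ J, σ x ∈ J := fun x hx => by
    have h := Ideal.mem_map_of_mem σ.toRingHom hx
    erw [Ideal.map_map, σ.comp_algebraMap] at h
    exact h
  obtain ⟨m, hm⟩ := exists_sum_ne_zero g hg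
  obtain ⟨e, rfl⟩ := X.surj m
  have he : IsUnit (∑ i ∈ Finset.range n, σ^[i] e) := by
    rw [X.isUnit_iff, map_sum, Finset.sum_congr rfl fun i _ => (X.lift_iterate ga i e).trans (hgi i _)]
    exact hm
  let C := cycCover (ResidueField R) L M g hg
  have hres : ∀ (i : ℕ) (u : EtCoh.sect (KI R I) (spT R X.T)),
      res _ (spow C.σ i) (X.θ u) = X.θ (res (KI R I) (spMap (X.lift X ((g ^ i).toAlgHom.restrictScalars R))) u) :=
    fun i u => by
      show res _ (spow (galMap (ResidueField R) L M g) i) _ = _
      rw [spow_galMap]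
      exact X.θ_res X _ _ rfl u
  have hval : ∀ (i : ℕ) (u : EtCoh.sect (KI R I) (spT R X.T)),
      val (res (KI R I) (spMap (X.lift X ((g ^ i).toAlgHom.restrictScalars R))) u) = σ^[i] (val u) := fun i u => by
    rw [val_res, X.iterate_eq_lift ga ((g ^ i).toAlgHom.restrictScalars R) i (hgi i)]
  have hnsum : ∀ u : EtCoh.sect (KI R I) (spT R X.T), ∃ v : EtCoh.sect (KI R I) (spT R X.T),
      C.nsum _ (X.θ u) = X.θ v ∧ val v = ∏ i ∈ Finset.range n, σ^[i] (val u) := fun u => by
    refine ⟨∑ i ∈ Finset.range n, res (KI R I) (spMap (X.lift X ((g ^ i).toAlgHom.restrictScalars R))) u, ?_, ?_⟩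
    · rw [map_sum]
      exact Finset.sum_congr rfl fun i _ => hres i u
    · rw [val_sum]
      exact Finset.prod_congr rfl fun i _ => hval i u
  refine ⟨fun s => ?_, fun t ht => ?_⟩
  · obtain ⟨s, rfl⟩ := Y.θ_bijective.2 s
    let a := π (val s)
    have ha : σ a = a := AlgHom.congr_fun
      (Model.hom_ext (g := σ.comp π) (g' := π) fun y => by
        rw [AlgHom.comp_apply, X.ρ_lift, Y.ρ_lift]
        exact g.commutes _) (val s)
    have ha1 : a - 1 ∈ J := by
      have h := Ideal.mem_map_of_mem π.toRingHom (val_sub_one_mem s)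
      erw [Ideal.map_map, π.comp_algebraMap, map_sub, map_one] at h
      exact h
    obtain ⟨x, hx, hxN⟩ := exists_norm_eq σ.toRingHom n J hJ hn hper e he a ha ha1
    have h1 : (1 + x * e) - 1 ∈ J := by rw [add_sub_cancel_left]; exact J.mul_mem_right _ hx
    obtain ⟨u, hu⟩ := exists_val (isUnit_iff_ne_zero_of_sub (hJ h1)) h1
    obtain ⟨v, hv, hvv⟩ := hnsum u
    refine ⟨X.θ u, hv.trans (Eq.trans ?_ (X.θ_res Y al C.π rfl s).symm)⟩
    congr 1
    refine val_injective ?_
    rw [hvv, hu, val_res]
    exact hxN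
  · obtain ⟨t, rfl⟩ := X.θ_bijective.2 t
    obtain ⟨v, hv, hvv⟩ := hnsum t
    have h0 : v = 0 := X.θ_bijective.1 (hv.symm.trans (ht.trans (map_zero _).symm))
    rw [h0, val_zero] at hvv
    obtain ⟨w, hw, hbw⟩ := exists_h90 σ.toRingHom n J hJ hn hper hσJ e he (val t) (val_sub_one_mem t) hvv.symm
    obtain ⟨w', hw'⟩ := exists_val (isUnit_iff_ne_zero_of_sub (hJ hw)) hw
    refine ⟨X.θ w', ?_⟩
    have h1 : res _ C.σ (X.θ w') = X.θ (res (KI R I) (spMap σ) w') := X.θ_res X ga C.σ rfl w'
    rw [h1, ← map_sub]
    refine congrArg _ (sub_eq_iff_eq_add.2 (val_injective ?_))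
    rw [val_add, val_res, hw']
    exact hbw.symm
where
  isUnit_iff_ne_zero_of_sub {T : Type u} [CommRing T] [IsLocalRing T] {a : T} (h : a - 1 ∈ maximalIdeal T) :
      IsUnit a := by
    by_contra ha
    have := (maximalIdeal T).sub_mem ha h
    rw [sub_sub_cancel] at this
    exact (maximalIdeal.isMaximal T).ne_top ((Ideal.eq_top_iff_one _).2 this)

end Groth.Agent.HensGm
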