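import Groth.Agent.EtH1PBC.Clopen
import Groth.Agent.FEtHens.Local
import Groth.Agent.GalCohLib.RelTransfer
import Groth.Agent.EtMV.HenselVanish
import Groth.Agent.Hensel.Local
import Mathlib

/-!
# Sections near the closed fibre of a finite étale local algebra over a henselian local ring
-/

set_option autoImplicit false
set_option backward.isDefEq.respectTransparency false
set_option linter.style.haveILetI false

universe u

open CategoryTheory CategoryTheory.Limits AlgebraicGeometry Opposite
open Groth.Agent.EtFLC (res res_res res_id)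
open Groth.Agent.EtH0Pair (unitSec unitSec_map)
open Groth.Agent.EtMV (clPt)

noncomputable section

namespace Groth.Agent.HensGm

variable (R : Type u) [CommRing R] [HenselianLocalRing R] (T : Type u) [CommRing T] [Algebra R T]
  [Algebra.Etale R T]

instance etale_spec_algebraMap : Etale (Spec.map (CommRingCat.ofHom (algebraMap R T))) := by
  rw [HasRingHomProperty.Spec_iff (P := @Etale)]
  exact RingHom.etale_algebraMap.2 inferInstance

/-- the étale scheme of an étale algebra -/
abbrev spT : (Spec (CommRingCat.of R)).Etale := Scheme.Etale.mk (Spec.map (CommRingCat.ofHom (algebraMap R T)))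

variable [IsLocalRing T] [IsLocalHom (algebraMap R T)]

/-- the closed point lies over the closed fibre -/
theorem exists_over_closedPoint :
    ∃ p : ((EtCoh.bc (clPt R)).obj (spT R T)).left,
      pullback.fst (spT R T).hom (clPt R) p = IsLocalRing.closedPoint T := by
  obtain ⟨x, hx⟩ := EtMV.range_clPt R
  obtain ⟨p, hp, -⟩ := Scheme.Pullback.exists_preimage_pullback (f := (spT R T).hom) (g := clPt R)
    (IsLocalRing.closedPoint T) x ((IsLocalRing.comap_closedPoint (algebraMap R T)).trans hx.symm)
  exact ⟨p, hp⟩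

/-- sections are determined on the closed fibre -/
theorem unitSec_injective (F : EtCoh.Ab (Spec (CommRingCat.of R))) :
    Function.Injective (unitSec (clPt R) F (spT R T)) := by
  rw [injective_iff_map_eq_zero]
  intro t ht
  have h1 := (EtPushStalk.unit_eq_zero_iff (clPt R) F (spT R T) t).mp ht
  obtain ⟨p, hp⟩ := exists_over_closedPoint R T
  have := (EtSect.map_eq_zero_iff F t (𝟙 _)).mpr fun x _ (hx : x ∈ EtShriek.sectSupp F (spT R T) t) =>
    h1 ⟨p, rfl⟩ (hp ▸ (IsLocalRing.specializes_closedPoint x).mem_closed (EtSect.isClosed_sectSupp F t) hx)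
  simpa using this

variable [Module.Finite R T]

/-- sections on the closed fibre lift -/
theorem unitSec_surjective (F : EtCoh.Ab (Spec (CommRingCat.of R))) :
    Function.Surjective (unitSec (clPt R) F (spT R T)) := by
  classical
  let X := Spec (CommRingCat.of R)
  let i := clPt R
  let U := spT R T
  haveI : IsClosedImmersion i := IsClosedImmersion.spec_of_surjective _ IsLocalRing.residue_surjective
  haveI : HenselianLocalRing T := Hensel.henselianLocalRing_finite R T
  haveI : IsFinite U.hom := (IsFinite.SpecMap_iff (f := CommRingCat.ofHom (algebraMap R T))).2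
    (RingHom.finite_algebraMap.2 inferInstance)
  intro s
  obtain ⟨p, hp⟩ := exists_over_closedPoint R T
  obtain ⟨V, a, t, q, hq, hs⟩ := EtH1PBC.exists_unit_near' i F U s p
  let G := (EtCoh.pull i).obj F
  let δ : EtCoh.sect G ((EtCoh.bc i).obj V) := G.obj.map ((EtCoh.bc i).map a).op s - unitSec i F V t
  let jV : ((EtCoh.bc i).obj V).left ⟶ V.left := pullback.fst V.hom i
  haveI : IsClosedImmersion jV := MorphismProperty.pullback_fst _ _ inferInstance
  let O : V.left.Opens := ⟨(jV '' EtShriek.sectSupp G _ δ)ᶜ,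
    (jV.isClosedEmbedding.isClosedMap _ (EtSect.isClosed_sectSupp G δ)).isOpen_compl⟩
  haveI := V.prop
  let Vo : X.Etale := Scheme.Etale.mk (O.ι ≫ V.hom)
  let b : Vo ⟶ V := MorphismProperty.Over.homMk O.ι rfl
  have hs0 : G.obj.map ((EtCoh.bc i).map b).op δ = 0 := by
    refine (EtSect.map_eq_zero_iff G δ _).mpr ?_
    rintro _ ⟨x, rfl⟩ hx
    have h1 : jV (((EtCoh.bc i).map b).left x) = O.ι (pullback.fst Vo.hom i x) := by
      have e := (EtCoh.isPullback_bc_map i b).w
      exact congrArg (fun m : ((EtCoh.bc i).obj Vo).left ⟶ V.left => m x) e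
    exact (pullback.fst Vo.hom i x).2 ⟨_, hx, h1⟩
  have hv : jV q ∈ O := by
    rintro ⟨q', hq', e⟩
    exact hs (jV.isClosedEmbedding.injective e ▸ hq')
  have hc : a.left (jV q) = IsLocalRing.closedPoint T := by
    rw [← hp, ← hq]
    exact (congrArg (fun m : ((EtCoh.bc i).obj V).left ⟶ U.left => m q) (EtCoh.isPullback_bc_map i a).w).symm
  haveI := Groth.Agent.EtSect.etale_left (b ≫ a)
  obtain ⟨Y', f, hE, hF, hS, h, hh⟩ := EtMV.exists_finite_nhd T (Scheme.Etale.mk (b ≫ a).left)
    (⟨jV q, hv⟩ : O) (by
      show (b ≫ a).left _ = _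
      rw [← hc, MorphismProperty.Comma.comp_left]
      rfl)
  haveI := hE
  haveI := hF
  let Y'' : X.Etale := Scheme.Etale.mk (f ≫ U.hom)
  let π : Y'' ⟶ U := MorphismProperty.Over.homMk f rfl
  let r : Y'' ⟶ Vo := MorphismProperty.Over.homMk h (by
    show h ≫ Vo.hom = f ≫ U.hom
    rw [← MorphismProperty.Over.w (b ≫ a), ← Category.assoc]
    exact congrArg (· ≫ U.hom) hh)
  have hπ : π = r ≫ b ≫ a := MorphismProperty.Over.Hom.ext (by
    rw [MorphismProperty.Comma.comp_left]
    exact hh.symm)
  have hG : ∀ {A B C : X.Etale} (c : A ⟶ B) (d : B ⟶ C) (x : EtCoh.sect G ((EtCoh.bc i).obj C)),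
      G.obj.map ((EtCoh.bc i).map c).op (G.obj.map ((EtCoh.bc i).map d).op x) =
        G.obj.map ((EtCoh.bc i).map (c ≫ d)).op x := fun c d x => by
    rw [Functor.map_comp, op_comp, Functor.map_comp]
    rfl
  let t' : EtCoh.sect F Y'' := F.obj.map r.op (F.obj.map b.op t)
  have ht' : unitSec i F Y'' t' = G.obj.map ((EtCoh.bc i).map π).op s := by
    have h2 : unitSec i F Vo (F.obj.map b.op t) = G.obj.map ((EtCoh.bc i).map (b ≫ a)).op s := by
      rw [← unitSec_map, Functor.map_comp, op_comp, Functor.map_comp, ConcreteCategory.comp_apply]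
      refine (sub_eq_zero.1 ?_).symm
      rw [← map_sub]
      exact hs0
    rw [← unitSec_map, h2, hG, hπ]
  haveI hPf : IsFinite (pullback.fst f f) := MorphismProperty.pullback_fst _ _ inferInstance
  haveI : Etale (pullback.fst f f) := MorphismProperty.pullback_fst _ _ inferInstance
  let P : X.Etale := Scheme.Etale.mk (pullback.fst f f ≫ f ≫ U.hom)
  let p₁ : P ⟶ Y'' := MorphismProperty.Over.homMk (pullback.fst f f) rfl
  let p₂ : P ⟶ Y'' := MorphismProperty.Over.homMk (pullback.snd f f) (by
    show pullback.snd f f ≫ f ≫ U.hom = pullback.fst f f ≫ f ≫ U.hom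
    rw [pullback.condition_assoc])
  have hp12 : p₁ ≫ π = p₂ ≫ π := MorphismProperty.Over.Hom.ext (by
    rw [MorphismProperty.Comma.comp_left, MorphismProperty.Comma.comp_left]
    exact pullback.condition)
  haveI : IsProper P.hom := inferInstanceAs (IsProper (pullback.fst f f ≫ f ≫ U.hom))
  have hP : F.obj.map p₁.op t' = F.obj.map p₂.op t' := by
    refine EtH1PBC.unitSec_injective i (FEtHens.clopenLift_closedFibre R P.hom) F ?_
    refine (unitSec_map i F p₁ t').symm.trans (Eq.trans ?_ (unitSec_map i F p₂ t'))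
    rw [ht', hG, hG, hp12]
  obtain ⟨u, hu⟩ := GalCohLib.exists_descend_rel F π f.surjective t' fun {Z} c d hcd => by
    have e : c.left ≫ f = d.left ≫ f := congrArg (fun m : Z ⟶ U => m.left) hcd
    let χ : Z ⟶ P := MorphismProperty.Over.homMk (pullback.lift c.left d.left e) (by
      show pullback.lift c.left d.left e ≫ pullback.fst f f ≫ f ≫ U.hom = Z.hom
      rw [pullback.lift_fst_assoc]
      exact MorphismProperty.Over.w c)
    have e1 : χ ≫ p₁ = c := MorphismProperty.Over.Hom.ext (pullback.lift_fst _ _ _)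
    have e2 : χ ≫ p₂ = d := MorphismProperty.Over.Hom.ext (pullback.lift_snd _ _ _)
    rw [← e1, ← e2, ← res_res F χ p₁, ← res_res F χ p₂]
    exact congrArg (res F χ) hP
  refine ⟨u, sub_eq_zero.1 ?_⟩
  have h3 : G.obj.map ((EtCoh.bc i).map π).op (unitSec i F U u - s) = 0 := by
    rw [map_sub, unitSec_map, sub_eq_zero, ← ht']
    exact congrArg _ hu
  have hsurj : Surjective ((EtCoh.bc i).map π).left :=
    MorphismProperty.of_isPullback (P := @Surjective) (EtCoh.isPullback_bc_map i π).flip hS
  have := (EtSect.map_eq_zero_iff G (unitSec i F U u - s) (𝟙 _)).mpr fun x _ => by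
    obtain ⟨y, hy⟩ := hsurj.1 x
    exact (EtSect.map_eq_zero_iff G _ _).mp h3 ⟨y, hy⟩
  simpa using this

theorem unitSec_bijective (F : EtCoh.Ab (Spec (CommRingCat.of R))) :
    Function.Bijective (unitSec (clPt R) F (spT R T)) :=
  ⟨unitSec_injective R T F, unitSec_surjective R T F⟩

end Groth.Agent.HensGm
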